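import Cfsg.Agent.Lib.CodeCert.Sound

/-!
# Relations that no group satisfies
-/

set_option autoImplicit false
set_option linter.unusedSectionVars false

namespace CfsgLib.CodeCert


/-- Two products of pairs at a node with one left code and different right codes. -/
def killOk (D : Data) (node : ℕ) (u v : List ℕ) : Bool :=
  factsOk D && (D.dgens.all fun l => l.all fun x => code2 D x.1 x.2) &&
    match pEval D D.facts.length node u, pEval D D.facts.length node v with
    | some (p, q), some (p', q') => Nat.beq p p' && !(Nat.beq q q')
    | _, _ => false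

theorem Sys.false_of_killOk {G : Type*} [Group G] {D : Data} {f : ℕ → G} {s : ℕ → G} (S : Sys D f s)
    {node : ℕ} {u v : List ℕ} (h : killOk D node u v = true) : False := by
  simp only [killOk, Bool.and_eq_true] at h
  obtain ⟨⟨hf, hd'⟩, h⟩ := h
  have hd : ∀ k < D.K, ∀ x ∈ D.dgens.getD k [], x.1 < D.N ∧ x.2 < D.N := by
    intro k _ x hx
    rcases lt_or_ge k D.dgens.length with hk | hk
    · rw [List.getD_eq_getElem _ _ hk] at hx
      exact code2_iff.1 (List.all_eq_true.1 (List.all_eq_true.1 hd' _ (List.getElem_mem _)) x hx)
    · rw [List.getD_eq_default _ _ hk] at hx; simp at hx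
  have H := S.upto_all hd hf
  split at h
  · next p q p' q' e e' =>
    simp only [Bool.and_eq_true, Bool.not_eq_true'] at h
    obtain ⟨-, hq, h1⟩ := S.pEval_spec H node u p q e
    obtain ⟨-, hq', h2⟩ := S.pEval_spec H node v p' q' e'
    rw [beq_true h.1, h2] at h1
    have hqq := S.inj q' q hq' hq (mul_left_cancel h1)
    rw [hqq] at h
    exact absurd h.2 (by simp)
  · cases h

end CfsgLib.CodeCert
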