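import Mathlib
import Cfsg.Agent.Lib.CodeCert.Check

/-!
# Soundness of the certificates
-/

set_option autoImplicit false
set_option linter.unusedSectionVars false

namespace CfsgLib.CodeCert


variable {G : Type*} [Group G]

/-- The extra element with the given index, or its inverse. -/
def sx (D : Data) (s : ℕ → G) (k : ℕ) : G := if k < D.K then s k else (s (k - D.K))⁻¹

/-- The element of a letter. -/
def tokEl (D : Data) (f : ℕ → G) (s : ℕ → G) : Tok → G
  | .c x => f x
  | .s k => sx D s k

/-- The element of a word. -/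
def wEval (D : Data) (f : ℕ → G) (s : ℕ → G) (w : List Tok) : G := (w.map (tokEl D f s)).prod

/-- A group with the codes of the centraliser and extra elements satisfying the relations. -/
structure Sys (D : Data) (f : ℕ → G) (s : ℕ → G) : Prop where
  pos : 0 < D.N
  mul0 : D.mul 0 0 = 0
  mul : ∀ c d, c < D.N → d < D.N → f c * f d = f (D.mul c d)
  lt : ∀ c d, c < D.N → d < D.N → D.mul c d < D.N
  inj : ∀ c d, c < D.N → d < D.N → f c = f d → c = d
  conj : ∀ k < D.K, ∀ x ∈ D.dgens.getD k [], s k * f x.1 = f x.2 * s k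
  rel : ∀ w ∈ D.rels, wEval D f s w = 1

/-- The element of a node. -/
def gEl (D : Data) (f : ℕ → G) (s : ℕ → G) (j : ℕ) : G :=
  if j = 0 then 1 else
    if (D.defs.getD (j - 1) (0, 0, 0)).2.2 < j then
      sx D s (D.defs.getD (j - 1) (0, 0, 0)).1 * f (D.defs.getD (j - 1) (0, 0, 0)).2.1 *
        gEl D f s (D.defs.getD (j - 1) (0, 0, 0)).2.2
    else 1
termination_by j

/-- The element of a state. -/
def stEl (D : Data) (f : ℕ → G) (s : ℕ → G) (st : St) : G := f st.c * gEl D f s st.i * f st.q

/-- The meaning of an identity. -/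
def Holds (D : Data) (f : ℕ → G) (s : ℕ → G) : Concl → Prop
  | .pair i p q => f p * gEl D f s i = gEl D f s i * f q
  | .edge k u i c1 j c2 => sx D s k * f u * gEl D f s i = f c1 * gEl D f s j * f c2
  | .merge j i a b => gEl D f s j = f a * gEl D f s i * f b

theorem code2_iff {D : Data} {a b : ℕ} : code2 D a b = true ↔ a < D.N ∧ b < D.N := by
  simp [code2]

theorem beq_true {a b : ℕ} (h : Nat.beq a b = true) : a = b := Nat.eq_of_beq_eq_true h

namespace Sys

variable {D : Data} {f : ℕ → G} {s : ℕ → G} (S : Sys D f s)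

include S

theorem one : f 0 = 1 := by
  have h := S.mul 0 0 S.pos S.pos
  rw [S.mul0] at h
  exact mul_eq_left.1 h

theorem dEval_spec (hd : ∀ k < D.K, ∀ x ∈ D.dgens.getD k [], x.1 < D.N ∧ x.2 < D.N) {k : ℕ} (hk : k < D.K) :
    ∀ w : List ℕ, (dEval D k w).1 < D.N ∧ (dEval D k w).2 < D.N ∧
      s k * f (dEval D k w).1 = f (dEval D k w).2 * s k
  | [] => by simp [dEval, S.pos, S.one]
  | g :: w => by
    obtain ⟨h1, h2, h3⟩ := dEval_spec hd hk w
    simp only [dEval, Nat.blt_eq, hk, if_true]
    set x := (D.dgens.getD k []).getD g (0, 0)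
    have hx : x.1 < D.N ∧ x.2 < D.N ∧ s k * f x.1 = f x.2 * s k := by
      rcases lt_or_ge g (D.dgens.getD k []).length with hg | hg
      · have hm : x ∈ D.dgens.getD k [] := by
          simp only [x]; rw [List.getD_eq_getElem _ _ hg]; exact List.getElem_mem _
        exact ⟨(hd k hk x hm).1, (hd k hk x hm).2, S.conj k hk x hm⟩
      · simp only [x]
        rw [List.getD_eq_default _ _ hg]
        simp [S.pos, S.one]
    refine ⟨S.lt _ _ hx.1 h1, S.lt _ _ hx.2.1 h2, ?_⟩
    rw [← S.mul _ _ hx.1 h1, ← S.mul _ _ hx.2.1 h2, ← mul_assoc, hx.2.2, mul_assoc, h3, mul_assoc]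

theorem dMap_spec (hd : ∀ k < D.K, ∀ x ∈ D.dgens.getD k [], x.1 < D.N ∧ x.2 < D.N) {k : ℕ} (hk : k < 2 * D.K)
    (w : List ℕ) : (dMap D k w).1 < D.N ∧ (dMap D k w).2 < D.N ∧
      sx D s k * f (dMap D k w).1 = f (dMap D k w).2 * sx D s k := by
  by_cases h : k < D.K
  · simp only [dMap, Nat.blt_eq, h, if_true, sx]
    exact S.dEval_spec hd h w
  · have hk' : k - D.K < D.K := by omega
    have e : dEval D k w = dEval D (k - D.K) w := by
      induction w with
      | nil => rfl
      | cons g w ih => simp only [dEval, Nat.blt_eq, h, hk', if_true, if_false, ih]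
    obtain ⟨h1, h2, h3⟩ := S.dEval_spec hd hk' w
    simp only [dMap, Nat.blt_eq, h, if_false, sx, e]
    refine ⟨h2, h1, ?_⟩
    rw [inv_mul_eq_iff_eq_mul, ← mul_assoc, h3, mul_inv_cancel_right]

/-- The facts before `n` hold. -/
def Upto (D : Data) (f : ℕ → G) (s : ℕ → G) (n : ℕ) : Prop :=
  ∀ e cl, factAt D n e = some cl → Holds D f s cl

theorem pEval_spec {n : ℕ} (H : Upto D f s n) (i : ℕ) : ∀ (w : List ℕ) (p q : ℕ), pEval D n i w = some (p, q) →
    p < D.N ∧ q < D.N ∧ f p * gEl D f s i = gEl D f s i * f q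
  | [], p, q, h => by
    simp only [pEval, Option.some.injEq, Prod.mk.injEq] at h
    obtain ⟨rfl, rfl⟩ := h
    simp [S.pos, S.one]
  | e :: w, p, q, h => by
    simp only [pEval] at h
    split at h
    · next j p1 q1 p' q' he hw =>
      split_ifs at h with hc
      simp only [Bool.and_eq_true, code2_iff] at hc
      obtain ⟨hij, hp, hq⟩ := hc
      obtain rfl := beq_true hij
      simp only [Option.some.injEq, Prod.mk.injEq] at h
      obtain ⟨rfl, rfl⟩ := h
      obtain ⟨hp', hq', h'⟩ := pEval_spec H i w _ _ hw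
      have hh : f p1 * gEl D f s i = gEl D f s i * f q1 := H e _ he
      refine ⟨S.lt _ _ hp hp', S.lt _ _ hq hq', ?_⟩
      rw [← S.mul _ _ hp hp', ← S.mul _ _ hq hq', mul_assoc, h', ← mul_assoc, hh, mul_assoc]
    · cases h

variable (hd : ∀ k < D.K, ∀ x ∈ D.dgens.getD k [], x.1 < D.N ∧ x.2 < D.N)

include hd

theorem step_spec {n : ℕ} (H : Upto D f s n) (o : Op) (st st' : St) (hst : st.c < D.N ∧ st.q < D.N)
    (h : step D n st o = some st') :
    (st'.c < D.N ∧ st'.q < D.N) ∧ stEl D f s st' = wEval D f s (wordOf [o]) * stEl D f s st := by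
  obtain ⟨hc, hq⟩ := hst
  cases o with
  | code x =>
    simp only [step] at h
    split_ifs at h with hx
    simp only [Option.some.injEq] at h
    subst h
    have hx' : x < D.N := Nat.le_of_ble_eq_true hx
    refine ⟨⟨S.lt _ _ hx' hc, hq⟩, ?_⟩
    simp only [stEl, wordOf, List.nil_append, wEval, List.map_cons, List.map_nil, List.prod_cons, List.prod_nil,
      tokEl, mul_one, ← S.mul _ _ hx' hc, mul_assoc]
  | ext k e dw ps =>
    simp only [step] at h
    split at h
    · next k' u i c1 j c2 p qp he hp =>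
      split_ifs at h with hcond
      simp only [Bool.and_eq_true, code2_iff, Nat.blt_eq] at hcond
      obtain ⟨⟨⟨⟨⟨⟨⟨hk, hkk⟩, hii⟩, hu, hc1⟩, hc2, hd1⟩, hd2, hpl⟩, hqp, -⟩, heq⟩ := hcond
      obtain rfl := beq_true hkk
      obtain rfl := beq_true hii
      have heq' := beq_true heq
      simp only [Option.some.injEq] at h
      subst h
      obtain ⟨-, -, hdd⟩ := S.dMap_spec hd hk dw
      obtain ⟨-, -, hpp⟩ := S.pEval_spec H _ ps p qp hp
      have hh : sx D s k * f u * gEl D f s st.i = f c1 * gEl D f s j * f c2 := H e _ he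
      refine ⟨⟨S.lt _ _ hd2 hc1, S.lt _ _ (S.lt _ _ hc2 hqp) hq⟩, ?_⟩
      simp only [stEl, wordOf, List.nil_append, wEval, List.map_cons, List.map_nil, List.prod_cons, List.prod_nil,
        tokEl, mul_one]
      rw [← heq', ← S.mul _ _ (S.lt _ _ hd1 hu) hpl, ← S.mul _ _ hd1 hu, ← S.mul _ _ hd2 hc1,
        ← S.mul _ _ (S.lt _ _ hc2 hqp) hq, ← S.mul _ _ hc2 hqp]
      calc f (dMap D k dw).2 * f c1 * gEl D f s j * (f c2 * f qp * f st.q)
          = f (dMap D k dw).2 * (f c1 * gEl D f s j * f c2) * f qp * f st.q := by group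
        _ = f (dMap D k dw).2 * sx D s k * f u * (gEl D f s st.i * f qp) * f st.q := by rw [← hh]; group
        _ = sx D s k * f (dMap D k dw).1 * f u * (f p * gEl D f s st.i) * f st.q := by rw [← hdd, hpp]
        _ = _ := by group
    · cases h
  | merge m =>
    simp only [step] at h
    split at h
    · next j i a b he =>
      split_ifs at h with hcond
      simp only [Bool.and_eq_true, code2_iff] at hcond
      obtain ⟨hj, ha, hb⟩ := hcond
      obtain rfl := beq_true hj
      simp only [Option.some.injEq] at h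
      subst h
      have hh : gEl D f s st.i = f a * gEl D f s i * f b := H m _ he
      refine ⟨⟨S.lt _ _ hc ha, S.lt _ _ hb hq⟩, ?_⟩
      simp only [stEl, wordOf, wEval, List.map_nil, List.prod_nil, one_mul]
      rw [← S.mul _ _ hc ha, ← S.mul _ _ hb hq, hh]; group
    · cases h
  | pair e c' =>
    simp only [step] at h
    split at h
    · next i p q he =>
      split_ifs at h with hcond
      simp only [Bool.and_eq_true, code2_iff, Nat.blt_eq] at hcond
      obtain ⟨⟨⟨hi, hp, hq0⟩, hc'⟩, heq⟩ := hcond
      obtain rfl := beq_true hi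
      have heq' := beq_true heq
      simp only [Option.some.injEq] at h
      subst h
      have hh : f p * gEl D f s st.i = gEl D f s st.i * f q := H e _ he
      refine ⟨⟨hc', S.lt _ _ hq0 hq⟩, ?_⟩
      simp only [stEl, wordOf, wEval, List.map_nil, List.prod_nil, one_mul]
      rw [← heq', ← S.mul _ _ hc' hp, ← S.mul _ _ hq0 hq, mul_assoc (f c') (f p), hh]; group
    · cases h

omit hd in
theorem wordOf_cons (o : Op) (w : List Op) : wordOf (o :: w) = wordOf w ++ wordOf [o] := by
  cases o <;> simp [wordOf]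

theorem run_spec {n : ℕ} (H : Upto D f s n) : ∀ (w : List Op) (st st' : St), st.c < D.N ∧ st.q < D.N →
    run D n w st = some st' →
    (st'.c < D.N ∧ st'.q < D.N) ∧ stEl D f s st' = wEval D f s (wordOf w) * stEl D f s st
  | [], st, st', hst, h => by
    simp only [run, Option.some.injEq] at h
    subst h
    simp [hst, wordOf, wEval]
  | o :: w, st, st', hst, h => by
    simp only [run] at h
    split at h
    · next st1 h1 =>
      obtain ⟨hb, e1⟩ := S.step_spec hd H o st st1 hst h1
      obtain ⟨hb', e2⟩ := run_spec H w st1 st' hb h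
      refine ⟨hb', ?_⟩
      rw [e2, e1, S.wordOf_cons o w, wEval, wEval, wEval, List.map_append, List.prod_append, mul_assoc]
    · cases h

omit hd in
theorem words_spec {L R : List Tok} {rel : Option (ℕ × ℕ)} (h : wordsOk D L R rel = true) :
    wEval D f s L = wEval D f s R := by
  have hrot : ∀ r z, wEval D f s ((D.rels.getD r []).rotate z) = 1 := fun r z => by
    rcases lt_or_ge r D.rels.length with hr | hr
    · have h1 : ((D.rels.getD r []).map (tokEl D f s)).prod = 1 :=
        S.rel _ (by rw [List.getD_eq_getElem _ _ hr]; exact List.getElem_mem _)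
      rw [wEval, List.map_rotate]
      exact List.prod_rotate_eq_one_of_prod_eq_one h1 z
    · rw [List.getD_eq_default _ _ hr]; simp [wEval]
  cases rel with
  | none => simp only [wordsOk, decide_eq_true_eq] at h; rw [h]
  | some p =>
    obtain ⟨r, z⟩ := p
    simp only [wordsOk, Bool.or_eq_true, Bool.and_eq_true, decide_eq_true_eq] at h
    rcases h with ⟨rfl, rfl⟩ | ⟨rfl, rfl⟩ <;> rw [hrot] <;> rfl

omit hd in
theorem cancel_el {a b c d : ℕ} {g x : G} (ha : a < D.N) (hb : b < D.N) (hc : c < D.N) (hd' : d < D.N)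
    (h : f a * g * f b = x) : f (D.mul c a) * g * f (D.mul b d) = f c * x * f d := by
  rw [← S.mul _ _ hc ha, ← S.mul _ _ hb hd', ← h]; group

theorem factOk_spec {n : ℕ} (H : Upto D f s n) (x : Concl × Why) (h : factOk D n x = true) :
    Holds D f s x.1 := by
  obtain ⟨cl, why⟩ := x
  cases why with
  | def' =>
    cases cl with
    | pair i p q =>
      simp only [factOk, Bool.and_eq_true] at h
      obtain ⟨⟨hi, hpq⟩, -⟩ := h
      obtain rfl := beq_true hi
      obtain rfl := beq_true hpq
      simp [Holds, gEl]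
    | edge k u i c1 j c2 =>
      simp only [factOk, Bool.and_eq_true, decide_eq_true_eq, Nat.blt_eq] at h
      obtain ⟨⟨⟨⟨⟨hij, hdef⟩, -⟩, h1⟩, h2⟩, -⟩ := h
      obtain rfl := beq_true h1
      obtain rfl := beq_true h2
      show sx D s k * f u * gEl D f s i = f 0 * gEl D f s j * f 0
      have hj : gEl D f s j = sx D s k * f u * gEl D f s i := by
        conv_lhs => rw [gEl]
        rw [if_neg (by omega), hdef, if_pos hij]
      rw [S.one, one_mul, mul_one, hj]
    | merge j i a b => simp [factOk] at h
  | walk st L R rel =>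
    simp only [factOk] at h
    split at h
    · next A B hA hB =>
      simp only [Bool.and_eq_true, stOk, code2_iff] at h
      obtain ⟨⟨⟨hst, hAb⟩, hBb⟩, h⟩ := h
      obtain ⟨-, eA⟩ := S.run_spec hd H L st A hst hA
      obtain ⟨-, eB⟩ := S.run_spec hd H R st B hst hB
      have cancel : ∀ {g g' : G}, f A.c * g * f A.q = f A.c * g' * f A.q → g = g' := fun h =>
        mul_left_cancel (mul_right_cancel h)
      cases cl with
      | pair i p q =>
        simp only [Bool.and_eq_true, code2_iff] at h
        obtain ⟨⟨⟨⟨⟨hw, hAi⟩, hBi⟩, hp, hq⟩, e1⟩, e2⟩ := h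
        obtain rfl := beq_true hAi
        have hBi' := beq_true hBi
        have hel : stEl D f s A = stEl D f s B := by rw [eA, eB, S.words_spec hw]
        simp only [stEl, hBi'] at hel
        rw [← beq_true e1, ← S.mul _ _ hAb.1 hp, ← beq_true e2, ← S.mul _ _ hq hBb.2] at hel
        show f p * gEl D f s A.i = gEl D f s A.i * f q
        have h2 : f A.c * (gEl D f s A.i * f q) * f B.q = f A.c * (f p * gEl D f s A.i) * f B.q := by
          simp only [mul_assoc] at hel ⊢; exact hel
        exact (mul_left_cancel (mul_right_cancel h2)).symm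
      | merge j i a b =>
        simp only [Bool.and_eq_true, code2_iff] at h
        obtain ⟨⟨⟨⟨⟨hw, hAi⟩, hBi⟩, ha, hb⟩, e1⟩, e2⟩ := h
        have hel : stEl D f s A = stEl D f s B := by rw [eA, eB, S.words_spec hw]
        simp only [stEl, beq_true hAi, beq_true hBi] at hel
        rw [← beq_true e1, ← beq_true e2, ← S.mul _ _ hAb.1 ha, ← S.mul _ _ hb hAb.2] at hel
        refine cancel ?_
        rw [hel]; group
      | edge k u i c1 j c2 =>
        simp only [Bool.and_eq_true, Nat.blt_eq] at h
        obtain ⟨⟨⟨⟨⟨⟨⟨hw, -⟩, hAi⟩, hAc⟩, hBi⟩, hBc⟩, hc2⟩, e2⟩ := h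
        have hw' := S.words_spec hw
        rw [wEval, List.map_cons, List.prod_cons] at hw'
        have hel : sx D s k * stEl D f s A = stEl D f s B := by
          rw [eA, eB, ← hw', ← mul_assoc]; rfl
        simp only [stEl, beq_true hAi, beq_true hAc, beq_true hBi, beq_true hBc] at hel
        rw [← beq_true e2, ← S.mul _ _ hc2 hAb.2] at hel
        show sx D s k * f u * gEl D f s i = f c1 * gEl D f s j * f c2
        refine mul_right_cancel (b := f A.q) ?_
        simp only [mul_assoc] at hel ⊢; exact hel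
    · cases h

theorem upto_all (h : factsOk D = true) : Upto D f s D.facts.length := by
  have key : ∀ n, n ≤ D.facts.length → Upto D f s n := by
    intro n
    induction n with
    | zero => intro _ e cl he; simp [factAt] at he
    | succ n ih =>
      intro hn e cl he
      simp only [factAt, Nat.blt_eq] at he
      split_ifs at he with hen
      rcases Nat.lt_succ_iff_lt_or_eq.1 hen with hl | rfl
      · exact ih (by omega) e cl (by simp [factAt, hl, he])
      · have hf := List.all_eq_true.1 h e (List.mem_range.2 (by omega))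
        simp only [Option.map_eq_some_iff] at he
        obtain ⟨x, hx, rfl⟩ := he
        simp only [hx] at hf
        exact S.factOk_spec hd (ih (by omega)) x hf
  exact key _ le_rfl

end Sys

end CfsgLib.CodeCert
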